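import Groth.Agent.TateLoc.K502.UnitConn
import Groth.Agent.TateLoc.K809.UnitSch
import Groth.Agent.TateLoc.K809.QuotFin
import Groth.Agent.TateLoc.K809.SeqExact
import Groth.Agent.S0115
import Mathlib.AlgebraicGeometry.Geometrically.Connected

/-!
# Finite locally free commutative group schemes embed in smooth affine commutative group schemes with geometrically
connected fibres, with quotient of the same kind
-/

set_option autoImplicit false
universe u

open WithConv TensorProduct Coalgebra
open CategoryTheory CategoryTheory.Limits MonoidalCategory CartesianMonoidalCategory MonObj GrpObj AlgebraicGeometry Opposite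

namespace K502.EmbConn

open K809.UnitAlg K809.UnitGrp

attribute [local instance] Functor.grpObjObj

theorem geometricallyConnected_B (R : Type u) [CommRing R] (H : Type u) [CommRing H] [HopfAlgebra R H] [IsCocomm R H]
    [Module.Finite R H] [Module.Projective R H] :
    GeometricallyConnected (Spec.map (CommRingCat.ofHom (algebraMap R (B R H)))) := by
  rw [GeometricallyConnected.eq_geometrically, geometrically_iff_of_commRing]
  intro K _ _ Z fst snd h
  have h1 : IsPullback (Spec.map (CommRingCat.ofHom
      (_root_.Algebra.TensorProduct.includeRight : B R H →ₐ[R] K ⊗[R] B R H).toRingHom))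
      (Spec.map (CommRingCat.ofHom (algebraMap K (K ⊗[R] B R H))))
      (Spec.map (CommRingCat.ofHom (algebraMap R (B R H)))) (Spec.map (CommRingCat.ofHom (algebraMap R K))) := by
    have := (CommRingCat.isPushout_tensorProduct R K (B R H)).op.map Scheme.Spec
    exact this
  let e : Z ≅ Spec (CommRingCat.of (K ⊗[R] B R H)) := h.isoIsPullback _ _ h1
  have h2 : ConnectedSpace (Spec (CommRingCat.of (K ⊗[R] B R H))) := UnitConn.connectedSpace (R := R) (H := H) K
  exact e.inv.homeomorph.surjective.connectedSpace e.inv.homeomorph.continuous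

/-- A finite locally free commutative group scheme over an affine scheme is a subgroup of a smooth affine commutative
group scheme with geometrically connected fibres. -/
theorem exists_emb (R : CommRingCat.{u}) (I : Over (Spec R)) [GrpObj I] [IsCommMonObj I] [IsFinite I.hom] [Flat I.hom]
    [LocallyOfFinitePresentation I.hom] :
    ∃ (A : Over (Spec R)) (_ : GrpObj A) (_ : IsCommMonObj A) (v : I ⟶ A) (_ : IsMonHom v),
      Mono v ∧ Smooth A.hom ∧ IsAffine A.left ∧ GeometricallyConnected A.hom := by
  have : IsAffine I.left := isAffine_of_isAffineHom I.hom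
  have h2 : (hopfSpec R).essImage (Grp.mk I) := essImage_hopfSpec.2 this
  obtain ⟨C, ⟨e⟩⟩ := h2
  let C' : Type u := C.unop
  let I' : Over (Spec R) := (Spec (CommRingCat.of C')).asOver (Spec R)
  let i : I' ≅ I := (Grp.forget _).mapIso e
  have hi : IsMonHom i.hom := inferInstanceAs (IsMonHom (e.hom.hom.hom))
  have hi' : IsMonHom i.inv := inferInstanceAs (IsMonHom (e.inv.hom.hom))
  have hil : IsIso i.hom.left := inferInstanceAs (IsIso ((Over.forget _).map i.hom))
  have hc : IsCommMonObj I' := K267.DeligneSch.isCommMonObj_of_iso i.hom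
  have hil' : IsIso (X := Spec (CommRingCat.of C')) i.hom.left := hil
  have hcc : Coalgebra.IsCocomm R C' := K267.DeligneSch.isCocomm_of_isCommMonObj hc
  obtain ⟨hfin, hproj⟩ := K809.UnitSch.data_of_iso (R := R) (C := C') I.hom i.hom.left (Over.w i.hom)
  let A : Over (Spec R) := (algSpec R).obj (Ao R C')
  let g : GrpObj A := Functor.grpObjObj
  have hA : IsCommMonObj A := inferInstance
  let v : (algSpec R).obj (op (CommAlgCat.of R C')) ⟶ A := (algSpec R).map (emb R C')
  have hv : IsMonHom v := inferInstance
  have hm : Mono v := inferInstance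
  let v' : I' ⟶ A := v
  have hv' : IsMonHom v' := hv
  have hm' : Mono v' := hm
  let w : I ⟶ A := i.inv ≫ v'
  have hw1 : IsMonHom w := inferInstanceAs (IsMonHom (i.inv ≫ v'))
  have hw2 : Mono w := mono_comp i.inv v'
  refine ⟨A, g, hA, w, hw1, hw2, ?_, ?_, ?_⟩
  · change Smooth (Spec.map (CommRingCat.ofHom (algebraMap R (B R C'))))
    rw [HasRingHomProperty.Spec_iff (P := @Smooth)]
    exact RingHom.smooth_algebraMap.2 (smooth_B (R := R) (H := C'))
  · change IsAffine (Spec (CommRingCat.of (B R C')))
    infer_instance
  · exact geometricallyConnected_B R C'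

theorem geometricallyConnected_of_surjective {X Y S : Scheme.{u}} (q : X ⟶ Y) (g : Y ⟶ S) [Surjective q]
    [GeometricallyConnected (q ≫ g)] : GeometricallyConnected g := by
  refine ⟨fun K _ y Z fst snd h => ?_⟩
  have h2 : ConnectedSpace ↥(pullback q fst) :=
    GeometricallyConnected.geometrically_connectedSpace (f := q ≫ g) y _ _
      ((IsPullback.of_hasPullback q fst).paste_vert h)
  have h3 : Surjective (pullback.snd q fst) := inferInstance
  exact h3.surj.connectedSpace (pullback.snd q fst).continuous

/-- **A finite locally free commutative group scheme over an affine scheme is the kernel of a finite locally free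
surjection of smooth affine commutative group schemes with geometrically connected fibres.** -/
theorem exists_seq (R : CommRingCat.{u}) (I : Over (Spec R)) [GrpObj I] [IsCommMonObj I] [IsFinite I.hom] [Flat I.hom]
    [LocallyOfFinitePresentation I.hom] :
    ∃ (A M : Over (Spec R)) (_ : GrpObj A) (_ : IsCommMonObj A) (_ : GrpObj M) (_ : IsCommMonObj M)
      (v : I ⟶ A) (_ : IsMonHom v) (q : A ⟶ M) (_ : IsMonHom q) (w : v ≫ q = 1),
      IsAffine A.left ∧ IsAffine M.left ∧ Smooth A.hom ∧ Smooth M.hom ∧ GeometricallyConnected A.hom ∧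
      GeometricallyConnected M.hom ∧ Mono v ∧ Mor2.IsFinLocFree q.left ∧ Surjective q.left ∧
      AlgGrp.IsKernel v q ∧ (CGrpSh.seq Scheme.fppfPrecoverage v q w).ShortExact := by
  obtain ⟨A, gA, cA, v, hv, hm, hs, ha, hgc⟩ := exists_emb R I
  have hA : IsAffineHom A.hom := inferInstance
  obtain ⟨M, gM, cM, q, hq, hfin, hsur, haM, hk, -⟩ :=
    K809.QuotFin.exists_quot (I := I) (G := A) v ⟨‹_›, ‹_›, ‹_›⟩ hA
  have hM : IsAffine M.left := haM ha
  have hfin' := hfin
  obtain ⟨q1, q2, q3⟩ := hfin'
  have hM' : IsAffineHom M.hom := inferInstance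
  have hsm : Smooth M.hom := by
    have : Smooth (q.left ≫ M.hom) := by rw [Over.w]; exact hs
    exact Groth.Agent.S0115.result q.left M.hom
  have hgM : GeometricallyConnected M.hom := by
    have : GeometricallyConnected (q.left ≫ M.hom) := by rw [Over.w]; exact hgc
    exact geometricallyConnected_of_surjective q.left M.hom
  have w : v ≫ q = 1 := by
    have := hk.w
    rw [this]
    rfl
  exact ⟨A, M, gA, cA, gM, cM, v, hv, q, hq, w, ha, hM, hs, hsm, hgc, hgM, hm, hfin, hsur, hk,
    K809.SeqExact.shortExact v q w hk⟩

end K502.EmbConn
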