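import Groth.Agent.TateLoc.K809.UnitAlg
import Mathlib.RingTheory.Nakayama
import Mathlib.RingTheory.Spectrum.Prime.Topology
import Mathlib.Topology.Connected.Basic
import Mathlib.RingTheory.Localization.Away.Basic
import Mathlib.Algebra.Polynomial.AlgebraMap
import Mathlib.LinearAlgebra.Basis.Basic

/-!
# The group of units of the convolution algebra has connected fibres

Every point of `Spec (κ ⊗ B R H)` is joined to the identity by the image of an open subset of an affine line.
-/

set_option autoImplicit false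
universe u

open WithConv TensorProduct Coalgebra LinearMap Polynomial

noncomputable section

namespace K502.UnitConn

open K809.UnitAlg

variable {R : Type u} [CommRing R] {H : Type u} [AddCommGroup H] [Module R H] [Coalgebra R H]

theorem vmap_algebraMap {C D : Type u} [CommRing C] [Algebra R C] [CommRing D] [Algebra R D] (φ : C →ₐ[R] D) (c : C) :
    vmap H φ (algebraMap C (V R H C) c) = algebraMap D (V R H D) (φ c) := by
  apply ofConv_injective
  apply LinearMap.ext
  intro h
  change φ ((algebraMap C (V R H C) c) h) = (algebraMap D (V R H D) (φ c)) h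
  rw [convAlgebraMap_apply, convAlgebraMap_apply]
  simp [_root_.Algebra.smul_def]

theorem vmap_smul {C D : Type u} [CommRing C] [Algebra R C] [CommRing D] [Algebra R D] (φ : C →ₐ[R] D) (c : C)
    (v : V R H C) : vmap H φ (c • v) = φ c • vmap H φ v := by
  rw [_root_.Algebra.smul_def, _root_.Algebra.smul_def, _root_.map_mul, vmap_algebraMap]

omit [Coalgebra R H] in
theorem finite_V [Module.Finite R H] [Module.Projective R H] (C : Type u) [CommRing C] [Algebra R C] :
    Module.Finite C (V R H C) := by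
  obtain ⟨n, e, he⟩ := Module.Finite.exists_fin' R H
  obtain ⟨s, hs⟩ := Module.projective_lifting_property e LinearMap.id he
  let b := Pi.basisFun R (Fin n)
  have e1 : (Fin n → C) ≃ₗ[C] ((Fin n → R) →ₗ[R] C) := b.constr C
  have h1 : Module.Finite C ((Fin n → R) →ₗ[R] C) := Module.Finite.equiv e1
  let L : ((Fin n → R) →ₗ[R] C) →ₗ[C] (H →ₗ[R] C) :=
    { toFun := fun f => f ∘ₗ s
      map_add' := fun f g => rfl
      map_smul' := fun c f => rfl }
  have hL : Function.Surjective L := fun f => ⟨f ∘ₗ e, by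
    change (f ∘ₗ e) ∘ₗ s = f
    rw [LinearMap.comp_assoc, hs, LinearMap.comp_id]⟩
  have h2 : Module.Finite C (H →ₗ[R] C) := Module.Finite.of_surjective L hL
  have e2 : (H →ₗ[R] C) ≃ₗ[C] V R H C := (WithConv.linearEquiv C (H →ₗ[R] C)).symm
  exact Module.Finite.equiv e2

/-- constants -/
abbrev Cm (R K : Type u) [CommRing R] [Field K] [Algebra R K] : K →ₐ[R] K[X] :=
  (CAlgHom : K →ₐ[K] K[X]).restrictScalars R

/-- the path joining `1` to `g` -/
def path {K : Type u} [Field K] [Algebra R K] (g : V R H K) : V R H K[X] :=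
  1 + (X : K[X]) • (vmap H (Cm R K) g - 1)

/-- evaluation -/
def ev {K : Type u} [Field K] (R : Type u) [CommRing R] [Algebra R K] (a : K) : K[X] →ₐ[R] K :=
  (aeval a : K[X] →ₐ[K] K).restrictScalars R

theorem vmap_ev_path {K : Type u} [Field K] [Algebra R K] (g : V R H K) (a : K) :
    vmap H (ev R a) (path g) = 1 + a • (g - 1) := by
  rw [path, _root_.map_add, vmap_smul, _root_.map_sub, _root_.map_one, ← vmap_comp]
  have h1 : (ev R a).comp (Cm R K) = AlgHom.id R K := by
    ext x
    change aeval a (C x) = x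
    simp
  have h2 : ev R a (X : K[X]) = a := by
    change aeval a X = a
    simp
  rw [h1, h2]
  rfl

variable [IsCocomm R H]

theorem exists_N [Module.Finite R H] [Module.Projective R H] {K : Type u} [Field K] [Algebra R K] (g : (V R H K)ˣ) :
    ∃ N : K[X], N.eval 0 = 1 ∧ N.eval 1 = 1 ∧ ∃ q : V R H K[X],
      path (g : V R H K) * q = algebraMap K[X] (V R H K[X]) N := by
  let W := V R H K[X]
  let p : W := path (g : V R H K)
  let g' : Wˣ := umap (Cm R K) g
  have hg' : (g' : W) = vmap H (Cm R K) (g : V R H K) := rfl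
  have hp : p = 1 + (X : K[X]) • ((g' : W) - 1) := rfl
  let Q := W ⧸ Ideal.span {p}
  have hfin : Module.Finite K[X] W := finite_V K[X]
  have hfinQ : Module.Finite K[X] Q := inferInstance
  let π : W →ₐ[K[X]] Q := Ideal.Quotient.mkₐ K[X] (Ideal.span {p})
  have hπ : π p = 0 := Ideal.Quotient.eq_zero_iff_mem.2 (Ideal.mem_span_singleton_self p)
  have hπ' : π (1 + (X : K[X]) • ((g' : W) - 1)) = 0 := hπ
  -- `X` is invertible on `Q`
  have h0 : (X : K[X]) • π (1 - (g' : W)) = 1 := by
    rw [_root_.map_add, _root_.map_one, _root_.map_smul, _root_.map_sub, smul_sub, _root_.map_one] at hπ'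
    rw [_root_.map_sub, smul_sub, _root_.map_one]
    linear_combination -hπ'
  have h1 : (X - 1 : K[X]) • π ((1 - (g' : W)) * ↑(g'⁻¹)) = 1 := by
    have e1 : (X - 1 : K[X]) • (1 - (g' : W)) = (g' : W) - p := by
      change (X - 1 : K[X]) • (1 - (g' : W)) = (g' : W) - (1 + (X : K[X]) • ((g' : W) - 1))
      rw [sub_smul, one_smul, smul_sub, smul_sub]
      ring
    rw [← _root_.map_smul, ← smul_mul_assoc, e1, sub_mul, Units.mul_inv, _root_.map_sub, _root_.map_mul, hπ,
      zero_mul, sub_zero, _root_.map_one]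
  have key : ∀ (a : K[X]) (w : Q), a • w = 1 → ∃ r : K[X], r - 1 ∈ Ideal.span {a} ∧ ∀ n : Q, r • n = 0 := by
    intro a w haw
    obtain ⟨r, hr, hr'⟩ := Submodule.exists_sub_one_mem_and_smul_eq_zero_of_fg_of_le_smul (Ideal.span {a})
      (⊤ : Submodule K[X] Q) Module.Finite.fg_top (by
        intro n _
        have : n = a • (w * n) := by rw [← smul_mul_assoc, haw, one_mul]
        rw [this]
        exact Submodule.smul_mem_smul (Ideal.mem_span_singleton_self a) trivial)
    exact ⟨r, hr, fun n => hr' n trivial⟩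
  obtain ⟨N₀, hN₀, hN₀'⟩ := key X _ h0
  obtain ⟨N₁, hN₁, hN₁'⟩ := key (X - 1) _ h1
  refine ⟨(1 - X) * N₀ + X * N₁, ?_, ?_, ?_⟩
  · obtain ⟨c, hc⟩ := Ideal.mem_span_singleton.mp hN₀
    have : N₀ = 1 + X * c := by rw [← hc]; ring
    rw [this]
    simp
  · obtain ⟨c, hc⟩ := Ideal.mem_span_singleton.mp hN₁
    have : N₁ = 1 + (X - 1) * c := by rw [← hc]; ring
    rw [this]
    simp
  · have h2 : π (algebraMap K[X] W ((1 - X) * N₀ + X * N₁)) = 0 := by
      rw [AlgHom.commutes, Algebra.algebraMap_eq_smul_one, add_smul, mul_smul, mul_smul, hN₀', hN₁', smul_zero,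
        smul_zero, add_zero]
    have h3 : algebraMap K[X] W ((1 - X) * N₀ + X * N₁) ∈ Ideal.span {p} := Ideal.Quotient.eq_zero_iff_mem.1 h2
    obtain ⟨q, hq⟩ := Ideal.mem_span_singleton.mp h3
    exact ⟨q, hq.symm⟩

/-- every point of the unit group is joined to the identity -/
theorem exists_path [Module.Finite R H] [Module.Projective R H] {K : Type u} [Field K] [Algebra R K] (g : (V R H K)ˣ) :
    ∃ (P : Type u) (_ : CommRing P) (_ : IsDomain P) (_ : Algebra K P) (_ : Algebra R P)
      (_ : IsScalarTower R K P) (e₀ e₁ : P →ₐ[K] K) (w : (V R H P)ˣ),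
      umap (e₀.restrictScalars R) w = 1 ∧ umap (e₁.restrictScalars R) w = g := by
  obtain ⟨N, hN₀, hN₁, q, hq⟩ := exists_N g
  have hN : N ≠ 0 := by
    rintro rfl
    simp at hN₀
  let P := Localization.Away N
  have hdom : IsDomain P := IsLocalization.isDomain_localization (powers_le_nonZeroDivisors_of_noZeroDivisors hN)
  let φ : K[X] →ₐ[R] P := IsScalarTower.toAlgHom R K[X] P
  have hunit : IsUnit (vmap H φ (path (g : V R H K))) := by
    have h1 : vmap H φ (path (g : V R H K)) * vmap H φ q = algebraMap P (V R H P) (φ N) := by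
      rw [← _root_.map_mul, hq, vmap_algebraMap]
    have h2 : IsUnit (φ N) := IsLocalization.Away.algebraMap_isUnit N
    exact isUnit_of_mul_isUnit_left (h1 ▸ h2.map _)
  have hev : ∀ a : K, N.eval a = 1 → ∃ e : P →ₐ[K] K, (e.restrictScalars R).comp φ = ev R a := by
    intro a ha
    have hu : IsUnit ((aeval a : K[X] →ₐ[K] K) N) := by
      rw [coe_aeval_eq_eval, ha]
      exact isUnit_one
    let e' : P →+* K := IsLocalization.Away.lift (g := ((aeval a : K[X] →ₐ[K] K) : K[X] →+* K)) N hu
    have he' : ∀ x : K[X], e' (algebraMap K[X] P x) = aeval a x := fun x => IsLocalization.Away.lift_eq _ _ _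
    let e : P →ₐ[K] K := { e' with
      commutes' := fun r => by
        change e' (algebraMap K P r) = r
        rw [IsScalarTower.algebraMap_apply K K[X] P, he']
        simp }
    exact ⟨e, AlgHom.ext fun x => he' x⟩
  obtain ⟨e₀, he₀⟩ := hev 0 hN₀
  obtain ⟨e₁, he₁⟩ := hev 1 hN₁
  refine ⟨P, inferInstance, hdom, inferInstance, inferInstance, inferInstance, e₀, e₁, hunit.unit, ?_, ?_⟩
  · apply Units.ext
    change vmap H (e₀.restrictScalars R) (vmap H φ (path (g : V R H K))) = 1
    rw [← vmap_comp, he₀, vmap_ev_path, zero_smul, add_zero]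
  · apply Units.ext
    change vmap H (e₁.restrictScalars R) (vmap H φ (path (g : V R H K))) = g
    rw [← vmap_comp, he₁, vmap_ev_path, one_smul]
    ring

omit [IsCocomm R H] in
theorem connectedSpace_of_paths (F : Type u) [CommRing F] (κ : Type u) [Field κ] (ε : F →+* κ)
    (h : ∀ (K : Type u) [Field K] (f : F →+* K), ∃ (P : Type u) (_ : CommRing P) (_ : IsDomain P)
      (Φ : F →+* P) (e₀ e₁ : P →+* K), e₁.comp Φ = f ∧ RingHom.ker (e₀.comp Φ) = RingHom.ker ε) :
    ConnectedSpace (PrimeSpectrum F) := by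
  let e : PrimeSpectrum F := PrimeSpectrum.comap ε ⊥
  have key : ∀ y : PrimeSpectrum F, ∃ t : Set (PrimeSpectrum F), e ∈ t ∧ y ∈ t ∧ IsPreconnected t := by
    intro y
    obtain ⟨P, _, _, Φ, e₀, e₁, h1, h2⟩ := h y.asIdeal.ResidueField (algebraMap F _)
    refine ⟨Set.range (PrimeSpectrum.comap Φ), ⟨PrimeSpectrum.comap e₀ ⊥, ?_⟩, ⟨PrimeSpectrum.comap e₁ ⊥, ?_⟩,
      isPreconnected_range (PrimeSpectrum.continuous_comap Φ)⟩
    · rw [← PrimeSpectrum.comap_comp_apply]
      apply PrimeSpectrum.ext
      exact h2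
    · rw [← PrimeSpectrum.comap_comp_apply, h1]
      apply PrimeSpectrum.ext
      exact Ideal.ker_algebraMap_residueField y.asIdeal
  have hpre : PreconnectedSpace (PrimeSpectrum F) := ⟨isPreconnected_of_forall e fun y _ => by
    obtain ⟨t, h1, h2, h3⟩ := key y
    exact ⟨t, Set.subset_univ _, h1, h2, h3⟩⟩
  exact { toNonempty := ⟨e⟩ }

/-- **The fibres of the unit group are connected.** -/
theorem connectedSpace [Module.Finite R H] [Module.Projective R H] (κ : Type u) [Field κ] [Algebra R κ] :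
    ConnectedSpace (PrimeSpectrum (κ ⊗[R] B R H)) := by
  let ε : κ ⊗[R] B R H →ₐ[κ] κ := _root_.Algebra.TensorProduct.lift (AlgHom.id κ κ) (ofUnit (1 : (V R H κ)ˣ))
    fun _ _ => Commute.all _ _
  refine connectedSpace_of_paths (κ ⊗[R] B R H) κ ε.toRingHom ?_
  intro K _ fF
  let _ : Algebra κ K := (fF.comp (algebraMap κ _)).toAlgebra
  let _ : Algebra R K := ((algebraMap κ K).comp (algebraMap R κ)).toAlgebra
  have : IsScalarTower R κ K := IsScalarTower.of_algebraMap_eq fun _ => rfl
  let f : κ ⊗[R] B R H →ₐ[κ] K := { fF with commutes' := fun _ => rfl }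
  let fB : B R H →ₐ[R] K := (f.restrictScalars R).comp _root_.Algebra.TensorProduct.includeRight
  obtain ⟨P, _, _, _, _, _, e₀, e₁, w, hw₀, hw₁⟩ := exists_path (umap fB (un R H))
  let _ : Algebra κ P := ((algebraMap K P).comp (algebraMap κ K)).toAlgebra
  have : IsScalarTower κ K P := IsScalarTower.of_algebraMap_eq fun _ => rfl
  have : IsScalarTower R κ P := IsScalarTower.of_algebraMap_eq fun r => by
    change _ = algebraMap K P (algebraMap κ K (algebraMap R κ r))
    rw [← IsScalarTower.algebraMap_apply R κ K, ← IsScalarTower.algebraMap_apply R K P]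
  let Φ : κ ⊗[R] B R H →ₐ[κ] P := _root_.Algebra.TensorProduct.lift (_root_.Algebra.ofId κ P) (ofUnit w)
    fun _ _ => Commute.all _ _
  have h1 : (e₁.restrictScalars R).comp (ofUnit w) = fB := by
    refine hom_ext ?_
    rw [umap_comp, umap_ofUnit, hw₁]
  have h0 : (e₀.restrictScalars R).comp (ofUnit w) = (IsScalarTower.toAlgHom R κ K).comp (ofUnit 1) := by
    refine hom_ext ?_
    rw [umap_comp, umap_comp, umap_ofUnit, hw₀, umap_ofUnit, _root_.map_one]
  have hf : (e₁.restrictScalars κ).comp Φ = f := by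
    refine _root_.Algebra.TensorProduct.ext (_root_.Algebra.ext_id _ _ _) ?_
    refine AlgHom.ext fun b => ?_
    change e₁ (Φ (1 ⊗ₜ b)) = f (1 ⊗ₜ b)
    rw [_root_.Algebra.TensorProduct.lift_tmul, _root_.map_one, one_mul]
    exact congrArg (fun l => l b) h1
  have hε : (e₀.restrictScalars κ).comp Φ = (_root_.Algebra.ofId κ K).comp ε := by
    refine _root_.Algebra.TensorProduct.ext (_root_.Algebra.ext_id _ _ _) ?_
    refine AlgHom.ext fun b => ?_
    change e₀ (Φ (1 ⊗ₜ b)) = _root_.Algebra.ofId κ K (ε (1 ⊗ₜ b))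
    rw [_root_.Algebra.TensorProduct.lift_tmul, _root_.Algebra.TensorProduct.lift_tmul, _root_.map_one,
      _root_.map_one, one_mul, one_mul]
    exact congrArg (fun l => l b) h0
  refine ⟨P, inferInstance, inferInstance, Φ.toRingHom, e₀.toRingHom, e₁.toRingHom, ?_, ?_⟩
  · exact RingHom.ext fun x => congrArg (fun l : κ ⊗[R] B R H →ₐ[κ] K => l x) hf
  · have h2 : e₀.toRingHom.comp Φ.toRingHom = (algebraMap κ K).comp ε.toRingHom :=
      RingHom.ext fun x => congrArg (fun l : κ ⊗[R] B R H →ₐ[κ] K => l x) hε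
    rw [h2]
    ext x
    change algebraMap κ K (ε x) = 0 ↔ ε x = 0
    rw [_root_.map_eq_zero]

end K502.UnitConn
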